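import Cfsg.Agent.H553.AF.WData
import Cfsg.Agent.Nodes.WittInst

/-!
# Similitudes of a quadratic form acting on `PΩ` (S4829, own characteristic; helper845)

* `QSim Q l g` : `Q (g v) = l Q v`, `l ≠ 0`; `QSim.isSim`, `QSim.mul`, `QSim.inv`;
* `QSim.norm` : `g` normalises `E Q`;
* `full` : `H553.AF.Full (KSideO.model W hG hp)`;
* `QSim.ok` : the admissible pairs; `QSim.map_V0`.
-/

set_option autoImplicit false
set_option linter.unusedSectionVars false

namespace Cfsg.Agent.H845.OC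

open Cfsg QuadraticMap
open Cfsg.Agent.ChevalleyStructure.CoxeterGeom Cfsg.Agent.Tits.Roots Cfsg.Agent.Nodes.TypeC
open Cfsg.Agent.Nodes.Comb Cfsg.Agent.Nodes.Reps Cfsg.Agent.Nodes.WittRoot Cfsg.Agent.Nodes.BNOf
open Cfsg.Agent.Nodes.WittRGD
open Cfsg.Agent.TitsThree Cfsg.Agent.TitsThree.Siegel Cfsg.Agent.TitsThree.SiegelGen
  Cfsg.Agent.TitsThree.WittFrame
  Cfsg.Agent.TitsThree.WittWeyl Cfsg.Agent.TitsThree.FrameCN Cfsg.Agent.TitsThree.WBridge
  Cfsg.Agent.TitsThree.KSideO
open Cfsg.Agent.LieClassical Cfsg.Agent.LieClassical.OrthCore Cfsg.Agent.LieClassical.OrthTrans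
open Cfsg.Agent.LieClassical.OrthSimple Cfsg.Agent.LieClassical.OrthFinite
open Cfsg.Agent.H553.AF

section General

variable {F V : Type*} [Field F] [AddCommGroup V] [Module F V] {Q : QuadraticForm F V}

/-- similitudes of a quadratic form -/
structure QSim (Q : QuadraticForm F V) (l : F) (g : V ≃ₗ[F] V) : Prop where
  ne : l ≠ 0
  q : ∀ v, Q (g v) = l * Q v

theorem QSim.of_O {g : V ≃ₗ[F] V} (hg : g ∈ O Q) : QSim Q 1 g :=
  ⟨one_ne_zero, fun v => by rw [mem_O.1 hg, one_mul]⟩

theorem QSim.polar {l : F} {g : V ≃ₗ[F] V} (h : QSim Q l g) (v w : V) :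
    QuadraticMap.polar Q (g v) (g w) = l * QuadraticMap.polar Q v w := by
  rw [QuadraticMap.polar, QuadraticMap.polar, ← map_add, h.q, h.q, h.q]
  ring

theorem QSim.isSim {l : F} {g : V ≃ₗ[F] V} (h : QSim Q l g) : IsSim (HO Q) l g :=
  ⟨h.ne, rfl, fun v w => h.polar v w⟩

theorem QSim.mul {l l' : F} {g g' : V ≃ₗ[F] V} (h : QSim Q l g) (h' : QSim Q l' g') : QSim Q (l * l') (g * g') :=
  ⟨mul_ne_zero h.ne h'.ne, fun v => by
    change Q (g (g' v)) = _
    rw [h.q, h'.q, mul_assoc]⟩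

theorem QSim.inv {l : F} {g : V ≃ₗ[F] V} (h : QSim Q l g) : QSim Q l⁻¹ g⁻¹ := by
  refine ⟨inv_ne_zero h.ne, fun v => ?_⟩
  have := h.q (g⁻¹ v)
  have e : g (g⁻¹ v) = v := g.apply_symm_apply v
  rw [e] at this
  rw [this, inv_mul_cancel_left₀ h.ne]

theorem QSim.siegel_conj {l : F} {g : V ≃ₗ[F] V} (h : QSim Q l g) {u w : V} (hu : Q u = 0)
    (hw : QuadraticMap.polar Q u w = 0) (hu' : Q (g u) = 0) (hw' : QuadraticMap.polar Q (g u) (l⁻¹ • g w) = 0) :
    g * siegel Q u w hu hw * g⁻¹ = siegel Q (g u) (l⁻¹ • g w) hu' hw' := by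
  ext v
  obtain ⟨v, rfl⟩ := g.surjective v
  have h1 : (g * siegel Q u w hu hw * g⁻¹) (g v) = g (siegel Q u w hu hw v) := by
    show g (siegel Q u w hu hw (g.symm (g v))) = _
    rw [LinearEquiv.symm_apply_apply]
  have hl := h.ne
  rw [h1, siegel_apply, siegel_apply, h.polar, polar_smul_left, h.polar, QuadraticMap.map_smul, h.q]
  simp only [map_add, map_sub, map_smul, smul_smul, smul_eq_mul]
  have e1 : l * QuadraticMap.polar Q u v * l⁻¹ = QuadraticMap.polar Q u v := by field_simp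
  have e2 : l⁻¹ * (l * QuadraticMap.polar Q w v) = QuadraticMap.polar Q w v := by field_simp
  have e3 : l⁻¹ * l⁻¹ * (l * Q w) * (l * QuadraticMap.polar Q u v) = Q w * QuadraticMap.polar Q u v := by field_simp
  rw [e1, e2, e3]

theorem QSim.conj_mem_E {l : F} {g h : V ≃ₗ[F] V} (hg : QSim Q l g) (hh : h ∈ E Q) : g * h * g⁻¹ ∈ E Q := by
  induction hh using Subgroup.closure_induction with
  | mem x hx =>
    obtain ⟨u, w, hu, hw, rfl⟩ := hx
    have hu' : Q (g u) = 0 := by rw [hg.q, hu, mul_zero]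
    have hw' : QuadraticMap.polar Q (g u) (l⁻¹ • g w) = 0 := by
      rw [polar_smul_right, hg.polar, hw, mul_zero, smul_zero]
    rw [hg.siegel_conj hu hw hu' hw']
    exact siegel_mem_E hu' hw'
  | one => simp
  | mul x y _ _ hx hy =>
    have : g * (x * y) * g⁻¹ = (g * x * g⁻¹) * (g * y * g⁻¹) := by group
    rw [this]
    exact (E Q).mul_mem hx hy
  | inv x _ hx =>
    have : g * x⁻¹ * g⁻¹ = (g * x * g⁻¹)⁻¹ := by group
    rw [this]
    exact (E Q).inv_mem hx

/-- **a similitude normalises `E Q`** -/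
theorem QSim.norm {l : F} {g : V ≃ₗ[F] V} (hg : QSim Q l g) :
    g ∈ Subgroup.normalizer ((E Q : Subgroup (V ≃ₗ[F] V)) : Set (V ≃ₗ[F] V)) := by
  rw [Subgroup.mem_normalizer_iff]
  intro h
  refine ⟨fun hh => hg.conj_mem_E hh, fun hh => ?_⟩
  have h1 := hg.inv.conj_mem_E hh
  have e : g⁻¹ * (g * h * g⁻¹) * g⁻¹⁻¹ = h := by group
  rwa [e] at h1

end General

section Frame

variable {F V : Type*} [Field F] [AddCommGroup V] [Module F V] {Q : QuadraticForm F V} {m : ℕ}
  (W : WFrame (PO Q) m)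

/-- a monomial similitude preserves the anisotropic part -/
theorem QSim.map_V0 {l : F} {g : V ≃ₗ[F] V} (hg : QSim Q l g) {π ρ : Fin m × Bool → Fin m × Bool}
    (hm : Mono (toFrame W) g π) (hρ : ∀ x, π (ρ x) = x) {w : V} (hw : w ∈ W.V0) : g w ∈ W.V0 := by
  have key : ∀ x, QuadraticMap.polar Q (g w) ((toFrame W).b x) = 0 := by
    intro x
    obtain ⟨a, ha, e⟩ := hm (ρ x)
    rw [hρ] at e
    have h1 : (toFrame W).b x = a⁻¹ • g ((toFrame W).b (ρ x)) := by
      rw [e, smul_smul, inv_mul_cancel₀ ha, _root_.one_smul]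
    rw [h1, polar_smul_right, hg.polar]
    have h2 : QuadraticMap.polar Q w ((toFrame W).b (ρ x)) = 0 := (toFrame W).h0' _ hw
    rw [h2, mul_zero, smul_zero]
  exact Cfsg.Agent.Nodes.WittU.mem_V0_of_orth W (fun i => key (i, true)) (fun i => key (i, false))

include W in
/-- the multiplier is determined by the polar form -/
theorem QSim.mult_eq [NeZero m] {l l' : F} {g : V ≃ₗ[F] V} (hg : QSim Q l g) (hg' : IsSim (HO Q) l' g) : l' = l := by
  have h1 := hg'.sim ((toFrame W).b (0, false)) ((toFrame W).b (0, true))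
  have h2 := hg.isSim.sim ((toFrame W).b (0, false)) ((toFrame W).b (0, true))
  rw [h1] at h2
  refine mul_right_cancel₀ (b := (HO Q).h ((toFrame W).b (0, false)) ((toFrame W).b (0, true))) ?_ h2
  have := (toFrame W).hb_neg_self (0, true)
  change (HO Q).h ((toFrame W).b (0, false)) ((toFrame W).b (0, true)) = _ at this
  rw [this]
  exact (toFrame W).η_ne _

/-- admissible pairs under monomial similitudes -/
theorem QSim.ok [NeZero m] {l : F} {g : V ≃ₗ[F] V} (hg : QSim Q l g) {π ρ : Fin m × Bool → Fin m × Bool}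
    (hm : Mono (toFrame W) g π) (hρ : ∀ x, π (ρ x) = x) {l' : F} (hl' : IsSim (HO Q) l' g) {v : V} {c : F}
    (h : (toFrame W).ok v c) : (toFrame W).ok (g v) (l' * c) := by
  refine ⟨hg.map_V0 W hm hρ h.1, ?_⟩
  have h2 : c = -Q v := h.2
  change l' * c = -Q (g v)
  rw [hg.mult_eq W hl', hg.q, h2]
  ring

end Frame

section Matrix

variable {ι : Type} [Fintype ι] [DecidableEq ι] {F : Type*} [Field F] {Q : QuadraticForm F (ι → F)} {m : ℕ}
  (W : WFrame (PO Q) m)

/-- a map fixing all lines commutes with every linear map -/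
theorem comm_of_lines {V : Type*} [AddCommGroup V] [Module F V] {g : V ≃ₗ[F] V} (hs : ∀ v, ∃ a : F, g v = a • v)
    (k : V ≃ₗ[F] V) (v : V) : k (g v) = g (k v) := by
  have hk : ∀ v, ∃ c : F, k v ≠ 0 → g v = c • v ∧ g (k v) = c • k v := by
    intro v
    by_cases hv : ∃ m : F, k v = m • v
    · obtain ⟨m, hm⟩ := hv
      obtain ⟨a, ha⟩ := hs v
      exact ⟨a, fun _ => ⟨ha, by rw [hm, map_smul, ha, smul_comm]⟩⟩
    · obtain ⟨a, ha⟩ := hs v
      obtain ⟨c, hc⟩ := hs (k v)
      obtain ⟨d, hd⟩ := hs (v + k v)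
      rw [map_add, ha, hc, smul_add] at hd
      have h1 : (c - d) • k v = (d - a) • v := by
        rw [sub_smul, sub_smul]
        have h2 := hd
        rw [← sub_eq_zero] at h2 ⊢
        rw [← h2]; abel
      have hcd : c = d := by
        by_contra hne
        apply hv
        refine ⟨(c - d)⁻¹ * (d - a), ?_⟩
        rw [mul_smul, ← h1, smul_smul, inv_mul_cancel₀ (sub_ne_zero.2 hne), _root_.one_smul]
      have hv0 : v ≠ 0 := by
        rintro rfl
        exact hv ⟨0, by rw [map_zero, zero_smul]⟩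
      have had : a = d := by
        subst hcd
        rw [sub_self, zero_smul] at h1
        rcases smul_eq_zero.1 h1.symm with h3 | h3
        · exact (sub_eq_zero.1 h3).symm
        · exact absurd h3 hv0
      exact ⟨c, fun _ => ⟨by rw [ha, had, hcd], hc⟩⟩
  obtain ⟨c, hc⟩ := hk v
  by_cases h0 : k v = 0
  · have hv : v = 0 := k.map_eq_zero_iff.1 h0
    rw [hv]; simp
  · obtain ⟨h1, h2⟩ := hc h0
    rw [h1, h2, map_smul]

/-- **the kernel of the model consists of all scalars** -/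
theorem full (hG : Good Q) (hp : ∃ p : (toFrame W).Adm, p.c ≠ 0) : Full (model W hG hp) where
  surj := toPOmega_surjective hG
  ker := by
    have key : ∀ k : ↥(E Q), (∀ v, ∃ a : F, k.1 v = a • v) → toPOmega hG k = 1 := by
      intro k hk
      have h1 : toOmega hG k ∈ Subgroup.center (Cfsg.Omega F ⇑Q) := by
        rw [Subgroup.mem_center_iff]
        intro A
        obtain ⟨a, rfl⟩ := (toOmega hG).surjective A
        have e : a * k = k * a := by
          apply Subtype.ext
          ext1 v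
          exact comm_of_lines hk a.1 v
        rw [← map_mul, ← map_mul, e]
      exact (QuotientGroup.eq_one_iff _).2 h1
    exact key

end Matrix

end Cfsg.Agent.H845.OC
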