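import Cfsg.Agent.H845.OC.WTor

/-!
# The torus element `diag(ν, ν, 1, …, 1)` of a Witt model (S4829, own characteristic; helper845)

* `hX Fr x y t = nX x y t * (nX x y 1)⁻¹`;
* `exists_t_diag` : the torus element of a diagonal isometry with values `d k`, `1` at the last place;
* `exists_t_orth` : rank `≥ 3`, `σ = 1` : an element of the torus with `∏ eta = -1`.
-/

set_option autoImplicit false
set_option linter.unusedSectionVars false

namespace Cfsg.Agent.H845.OC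

open Cfsg.Agent.ChevalleyStructure.CoxeterGeom Cfsg.Agent.Tits.Roots Cfsg.Agent.Nodes.TypeC
open Cfsg.Agent.Nodes.Comb Cfsg.Agent.Nodes.Reps Cfsg.Agent.Nodes.WittRoot Cfsg.Agent.Nodes.BNOf
open Cfsg.Agent.Nodes.WittRGD Cfsg.Agent.Nodes.RGDLib Cfsg.Agent.Nodes.Bruhat
open Cfsg.Agent.TitsThree Cfsg.Agent.TitsThree.Siegel Cfsg.Agent.TitsThree.WittFrame
  Cfsg.Agent.TitsThree.WittWeyl Cfsg.Agent.TitsThree.FrameCN
open Cfsg.Agent.H553.AF Cfsg.Agent.H712.OC

universe v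

section HX

variable {F : Type*} [Field F] {V : Type*} [AddCommGroup V] [Module F V] {H : HForm F V} {ι : Type*} [DecidableEq ι]
  (Fr : Frame H ι)

/-- the torus element of a short root -/
def hX (x y : ι × Bool) (t : F) : V ≃ₗ[F] V := nX Fr x y t * (nX Fr x y 1)⁻¹

theorem isIso_hX (x y : ι × Bool) (t : F) : H.IsIso (hX Fr x y t) := by
  intro v w
  have h1 := isIso_nX Fr x y 1 ((nX Fr x y 1)⁻¹ v) ((nX Fr x y 1)⁻¹ w)
  have e : ∀ v, nX Fr x y 1 ((nX Fr x y 1)⁻¹ v) = v := fun v => (nX Fr x y 1).apply_symm_apply v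
  rw [e, e] at h1
  change H.h (nX Fr x y t ((nX Fr x y 1)⁻¹ v)) (nX Fr x y t ((nX Fr x y 1)⁻¹ w)) = _
  rw [isIso_nX Fr x y t, ← h1]

theorem inv_apply_of {g : V ≃ₗ[F] V} {v w : V} {c : F} (hc : c ≠ 0) (h : g v = c • w) : g⁻¹ w = c⁻¹ • v := by
  have h1 : g⁻¹ (g v) = v := g.symm_apply_apply v
  rw [h, map_smul] at h1
  rw [← h1, smul_smul, inv_mul_cancel₀ hc, one_smul]

variable {Fr}

theorem hX_apply_self {x y : ι × Bool} (h : x.1 ≠ y.1) {t : F} (ht : t ≠ 0) :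
    hX Fr x y t (Fr.b x) = t • Fr.b x := by
  change nX Fr x y t ((nX Fr x y 1)⁻¹ (Fr.b x)) = _
  rw [inv_apply_of one_ne_zero (nX_apply_neg Fr h (one_ne_zero (α := F))), inv_one, one_smul, nX_apply_neg Fr h ht]

theorem hX_apply_neg' {x y : ι × Bool} (h : x.1 ≠ y.1) {t : F} (ht : t ≠ 0) :
    hX Fr x y t (Fr.b (neg y)) = t⁻¹ • Fr.b (neg y) := by
  change nX Fr x y t ((nX Fr x y 1)⁻¹ (Fr.b (neg y))) = _
  have h1 : nX Fr x y 1 (Fr.b x) = (-1 : F) • Fr.b (neg y) := by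
    rw [nX_apply_self Fr h (one_ne_zero (α := F)), inv_one, one_smul, neg_smul, one_smul]
  rw [inv_apply_of (by simp) h1, map_smul, nX_apply_self Fr h ht]
  simp

theorem hX_apply_self' {x y : ι × Bool} (h : x.1 ≠ y.1) {t : F} (ht : t ≠ 0) :
    hX Fr x y t (Fr.b y) = H.σ t • Fr.b y := by
  change nX Fr x y t ((nX Fr x y 1)⁻¹ (Fr.b y)) = _
  have hk : -(H.ε⁻¹ * Fr.η x * Fr.η y * H.σ 1) ≠ 0 := by
    rw [map_one, mul_one]
    exact neg_ne_zero.2 (mul_ne_zero (mul_ne_zero (inv_ne_zero H.ε_ne) (Fr.η_ne _)) (Fr.η_ne _))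
  have h1 : nX Fr x y 1 (Fr.b (neg x)) = (-(H.ε⁻¹ * Fr.η x * Fr.η y * H.σ 1)) • Fr.b y := by
    rw [nX_apply_neg' Fr h (one_ne_zero (α := F)), neg_smul]
  rw [inv_apply_of hk h1, map_smul, nX_apply_neg' Fr h ht, ← neg_smul, smul_smul]
  congr 1
  rw [map_one]
  have h2 := H.ε_ne
  have h3 := Fr.η_ne x
  have h4 := Fr.η_ne y
  field_simp

theorem hX_apply_neg {x y : ι × Bool} (h : x.1 ≠ y.1) {t : F} (ht : t ≠ 0) :
    hX Fr x y t (Fr.b (neg x)) = (H.σ t)⁻¹ • Fr.b (neg x) := by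
  change nX Fr x y t ((nX Fr x y 1)⁻¹ (Fr.b (neg x))) = _
  have hk : (H.ε⁻¹ * Fr.η x * Fr.η y * H.σ 1)⁻¹ ≠ 0 := by
    rw [map_one, mul_one]
    exact inv_ne_zero (mul_ne_zero (mul_ne_zero (inv_ne_zero H.ε_ne) (Fr.η_ne _)) (Fr.η_ne _))
  rw [inv_apply_of hk (nX_apply_self' Fr h (one_ne_zero (α := F))), map_smul, nX_apply_self' Fr h ht, smul_smul]
  congr 1
  rw [map_one]
  have h2 := H.ε_ne
  have h3 := Fr.η_ne x
  have h4 := Fr.η_ne y
  have h5 : H.σ t ≠ 0 := by simpa using ht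
  field_simp

theorem hX_apply_of_ne {x y z : ι × Bool} (h : x.1 ≠ y.1) (h1 : z.1 ≠ x.1) (h2 : z.1 ≠ y.1) (t : F) :
    hX Fr x y t (Fr.b z) = Fr.b z := by
  change nX Fr x y t ((nX Fr x y 1)⁻¹ (Fr.b z)) = _
  have e : (nX Fr x y 1)⁻¹ (Fr.b z) = Fr.b z := by
    have h3 : (nX Fr x y 1)⁻¹ (nX Fr x y 1 (Fr.b z)) = Fr.b z := (nX Fr x y 1).symm_apply_apply _
    rwa [nX_apply_of_ne Fr h h1 h2] at h3
  rw [e, nX_apply_of_ne Fr h h1 h2]

theorem hX_apply_V0 {x y : ι × Bool} (h : x.1 ≠ y.1) {v : V} (hv : v ∈ Fr.V0) (t : F) : hX Fr x y t v = v := by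
  change nX Fr x y t ((nX Fr x y 1)⁻¹ v) = _
  have e : (nX Fr x y 1)⁻¹ v = v := by
    have h3 : (nX Fr x y 1)⁻¹ (nX Fr x y 1 v) = v := (nX Fr x y 1).symm_apply_apply _
    rwa [nX_apply_V0 Fr h hv] at h3
  rw [e, nX_apply_V0 Fr h hv]

end HX

variable {F : Type v} [Field F] {V : Type*} [AddCommGroup V] [Module F V] {H : HForm F V} {n : ℕ}
  {Fr : Frame H (Fin n)} {E : Type v} [Field E] {K : Type*} [Group K] {M : Model Fr K} {Y : YC Fr E}
  {p : ℕ} {p0 : Fr.Adm} {DS : Subgroup (V ≃ₗ[F] V)} {w : V ≃ₗ[F] V} (D : WDat M p p0 DS Y w)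

theorem hX_mem_Tor (hA : Cfsg.Agent.Nodes.WittAll.AmbT Fr p M.I) {x y : Fin n × Bool} (h : x.1 ≠ y.1) {t : F}
    (ht : t ≠ 0) : hX Fr x y t ∈ Tor Fr M.I := by
  refine ⟨mul_mem (Cfsg.Agent.Nodes.WittAll.nX_mem hA x y t) (inv_mem (Cfsg.Agent.Nodes.WittAll.nX_mem hA x y 1)), ?_⟩
  have hσ : H.σ t ≠ 0 := by simpa using ht
  intro z
  by_cases h1 : z.1 = x.1
  · by_cases h1' : z = x
    · subst h1'
      exact ⟨t, ht, hX_apply_self h ht⟩
    · have : z = neg x := by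
        rcases z with ⟨i, b⟩
        rcases x with ⟨j, c⟩
        have hij : i = j := h1
        subst hij
        cases b <;> cases c
        · exact absurd rfl h1'
        · rfl
        · rfl
        · exact absurd rfl h1'
      subst this
      exact ⟨(H.σ t)⁻¹, inv_ne_zero hσ, hX_apply_neg h ht⟩
  by_cases h2 : z.1 = y.1
  · by_cases h2' : z = y
    · subst h2'
      exact ⟨H.σ t, hσ, hX_apply_self' h ht⟩
    · have : z = neg y := by
        rcases z with ⟨i, b⟩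
        rcases y with ⟨j, c⟩
        have hij : i = j := h2
        subst hij
        cases b <;> cases c
        · exact absurd rfl h2'
        · rfl
        · rfl
        · exact absurd rfl h2'
      subst this
      exact ⟨t⁻¹, inv_ne_zero ht, hX_apply_neg' h ht⟩
  · exact ⟨1, one_ne_zero, by rw [hX_apply_of_ne h h1 h2]; exact (one_smul _ _).symm⟩

variable [NeZero n] [Finite F] [Finite E]

include D in
/-- **the torus element of a diagonal isometry** -/
theorem exists_t_diag (hσ : ∀ t : F, H.σ t = t) {g : V ≃ₗ[F] V} (hg : g ∈ Tor Fr M.I) (d : Fin n → Fˣ)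
    (hb : ∀ k, g (Fr.b (k, true)) = (d k : F) • Fr.b (k, true))
    (hs : H.IsIso g)
    (hZ : ∀ k : Fin n, ¬ (k : ℕ) + 1 < n → ∀ q, g * Fr.Z (k, true) q * g⁻¹ = Fr.Z (k, true) q)
    (val : Fin n → ℤˣ) (h1 : ∀ i : Fin n, ∀ hi : (i : ℕ) + 1 < n, eta F (d i / d ⟨i + 1, hi⟩) = val i)
    (h2 : ∀ i : Fin n, ¬ (i : ℕ) + 1 < n → val i = 1) :
    ∃ t ∈ Cfsg.Agent.Nodes.WittModel.T M, ∃ a : ∀ i : Fin n, (KK E F (sr i))ˣ,
      (∀ i s, t * xc M Y (sr i) s * t⁻¹ = xc M Y (sr i) (a i * s)) ∧ ∀ i, eta (KK E F (sr i)) (a i) = val i := by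
  have hcf : ∀ k : Fin n, (D.dg.cf (k, true) ⟨g, D.dg.tor hg⟩ : F) = d k := fun k =>
    D.dg.cv_unique (k, true) ⟨g, D.dg.tor hg⟩ (hb k)
  have hmu : D.dg.mu ⟨g, D.dg.tor hg⟩ = 1 := by
    have h3 := (D.dg.mu_spec ⟨g, D.dg.tor hg⟩).sim (Fr.b (0, true)) (Fr.b (0, false))
    rw [hs] at h3
    have h4 : H.h (Fr.b (0, true)) (Fr.b (0, false)) ≠ 0 := by
      have := Fr.hb_neg_self (0, false)
      change H.h (Fr.b (0, true)) (Fr.b (0, false)) = _ at this
      rw [this]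
      exact Fr.η_ne _
    exact (mul_right_cancel₀ h4 ((one_mul _).trans h3)).symm
  refine exists_t D hσ hg val (fun i hi => ⟨d i / d ⟨i + 1, hi⟩, ?_, h1 i hi⟩) fun i hi => ⟨1, fun a => ?_, ?_⟩
  · have hnx : nx i = neg ((⟨i + 1, hi⟩, true) : Fin n × Bool) := by unfold nx; rw [dif_pos hi]; rfl
    rw [hnx, D.dg.cf_neg, hcf, hcf, hmu, hσ, Units.val_div_eq_div_val]
    ring
  · rw [Units.val_one, one_mul]
    exact hZ i hi _
  · rw [map_one, h2 i hi]

include D in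
/-- **rank at least three: an element of the torus with `∏ eta = -1`** -/
theorem exists_t_orth (hσ : ∀ t : F, H.σ t = t) (hn : 3 ≤ n) (hF : Odd (Nat.card F)) :
    ∃ t ∈ Cfsg.Agent.Nodes.WittModel.T M, ∃ a : ∀ i : Fin n, (KK E F (sr i))ˣ,
      (∀ i s, t * xc M Y (sr i) s * t⁻¹ = xc M Y (sr i) (a i * s)) ∧ ∏ i, eta (KK E F (sr i)) (a i) = -1 := by
  classical
  obtain ⟨u, hu⟩ := exists_eta_neg hF
  obtain ⟨k0, hk0⟩ : ∃ k0 : Fin n, (k0 : ℕ) = 0 := ⟨⟨0, by omega⟩, rfl⟩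
  obtain ⟨k1, hk1⟩ : ∃ k1 : Fin n, (k1 : ℕ) = 1 := ⟨⟨1, by omega⟩, rfl⟩
  have h01 : ((k0, true) : Fin n × Bool).1 ≠ ((k1, true) : Fin n × Bool).1 := by
    intro h
    have := congrArg Fin.val h
    change (k0 : ℕ) = (k1 : ℕ) at this
    omega
  set g : V ≃ₗ[F] V := hX Fr (k0, true) (k1, true) (u : F) with hgdef
  have hg : g ∈ Tor Fr M.I := hX_mem_Tor D.amb h01 u.ne_zero
  let d : Fin n → Fˣ := fun k => if (k : ℕ) ≤ 1 then u else 1
  let val : Fin n → ℤˣ := fun k => if (k : ℕ) = 1 then -1 else 1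
  have key : ∃ t ∈ Cfsg.Agent.Nodes.WittModel.T M, ∃ a : ∀ i : Fin n, (KK E F (sr i))ˣ,
      (∀ i s, t * xc M Y (sr i) s * t⁻¹ = xc M Y (sr i) (a i * s)) ∧ ∀ i, eta (KK E F (sr i)) (a i) = val i := by
    refine exists_t_diag D hσ hg d (fun k => ?_) (isIso_hX Fr _ _ _) (fun k hk q => ?_) val
      (fun i hi => ?_) (fun i hi => ?_)
    · by_cases h0 : (k : ℕ) = 0
      · have hk : k = k0 := Fin.ext (h0.trans hk0.symm)
        rw [hk, hgdef, hX_apply_self h01 u.ne_zero]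
        simp [d, hk0]
      · by_cases h1 : (k : ℕ) = 1
        · have hk : k = k1 := Fin.ext (h1.trans hk1.symm)
          rw [hk, hgdef, hX_apply_self' h01 u.ne_zero, hσ]
          simp [d, hk1]
        · have h2 : ¬ (k : ℕ) ≤ 1 := by omega
          rw [hgdef, hX_apply_of_ne h01 (z := (k, true)) (fun h => h0 ((congrArg Fin.val h).trans hk0))
            (fun h => h1 ((congrArg Fin.val h).trans hk1))]
          simp [d, h2]
    · have hk2 : 2 ≤ (k : ℕ) := by omega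
      have hgb : g (Fr.b (k, true)) = (1 : F) • Fr.b (k, true) := by
        rw [hgdef, hX_apply_of_ne h01 (z := (k, true)) (fun h => by
          have := congrArg Fin.val h
          change (k : ℕ) = (k0 : ℕ) at this
          omega) (fun h => by
          have := congrArg Fin.val h
          change (k : ℕ) = (k1 : ℕ) at this
          omega), one_smul]
      refine conj_Z_sim Fr (IsSim.of_iso (isIso_hX Fr _ _ _)) hgb q q ?_ ?_
      · rw [map_one, inv_one, mul_one, one_smul]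
        exact hX_apply_V0 h01 (Fr.ok_mem q.ok) _
      · rw [map_one, inv_one, mul_one, mul_one, one_mul]
    · by_cases h0 : (i : ℕ) = 0
      · have e1 : d i = u := by simp [d, h0]
        have e2 : d ⟨i + 1, hi⟩ = u := by simp [d, h0]
        have e3 : val i = 1 := by simp [val, h0]
        rw [e1, e2, e3, div_self', map_one]
      · by_cases h1 : (i : ℕ) = 1
        · have e1 : d i = u := by simp [d, h1]
          have e2 : d ⟨i + 1, hi⟩ = 1 := by simp [d, h1]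
          have e3 : val i = -1 := by simp [val, h1]
          rw [e1, e2, e3, div_one, hu]
        · have e1 : d i = 1 := by
            have : ¬ (i : ℕ) ≤ 1 := by omega
            simp [d, this]
          have e2 : d ⟨i + 1, hi⟩ = 1 := by
            have : ¬ (i : ℕ) + 1 ≤ 1 := by omega
            simp only [d]
            rw [if_neg this]
          have e3 : val i = 1 := by simp [val, h1]
          rw [e1, e2, e3, div_one, map_one]
    · have : (i : ℕ) ≠ 1 := by omega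
      simp [val, this]
  obtain ⟨t, ht, a, ha, hv⟩ := key
  refine ⟨t, ht, a, ha, ?_⟩
  rw [Finset.prod_congr rfl fun i _ => hv i, Finset.prod_eq_single k1]
  · simp [val, hk1]
  · intro b _ hb
    have : (b : ℕ) ≠ 1 := fun h => hb (Fin.ext (h.trans hk1.symm))
    simp [val, this]
  · intro h
    exact absurd (Finset.mem_univ _) h

end Cfsg.Agent.H845.OC
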