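import Cfsg.Agent.H845.OC.Odd
import Cfsg.Agent.H845.OC.HX
import Cfsg.Agent.Mrg.Omega.EH3.Kf.TwWitt
import Cfsg.Agent.H148.GG.Par

/-!
# The adjoint data of `PΩ_{2m+1}(F)` (S4829, own characteristic; helper845)

`data`, `anti`, `commGen`.
-/

set_option autoImplicit false
set_option linter.unusedSectionVars false

namespace Cfsg.Agent.H845.OC.Odd

open Cfsg QuadraticMap
open Cfsg.Agent.ChevalleyStructure.CoxeterGeom Cfsg.Agent.Tits.Roots Cfsg.Agent.Nodes.TypeC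
open Cfsg.Agent.Nodes.Comb Cfsg.Agent.Nodes.Reps Cfsg.Agent.Nodes.WittRoot Cfsg.Agent.Nodes.BNOf
open Cfsg.Agent.Nodes.WittRGD Cfsg.Agent.Nodes.WittInst
open Cfsg.Agent.TitsThree Cfsg.Agent.TitsThree.Siegel Cfsg.Agent.TitsThree.SiegelGen
  Cfsg.Agent.TitsThree.WittFrame
  Cfsg.Agent.TitsThree.WittWeyl Cfsg.Agent.TitsThree.FrameCN Cfsg.Agent.TitsThree.WBridge
  Cfsg.Agent.TitsThree.KSideO
open Cfsg.Agent.LieClassical Cfsg.Agent.LieClassical.OrthCore Cfsg.Agent.LieClassical.OrthTrans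
open Cfsg.Agent.LieClassical.OrthSimple Cfsg.Agent.LieClassical.OrthFinite
open Cfsg.Agent.LieClassical.OrthForms
open Cfsg.Agent.H553.AF

universe v

variable {F : Type v} [Field F] {m : ℕ} [Finite F] {p : ℕ} [hp : Fact p.Prime] [CharP F p]

section Data

variable [NeZero m] (h2 : (2 : F) ≠ 0) (hm : 2 ≤ m) {W : Type*} [Group W] (cs : CoxeterSystem (CoxeterMatrix.B m) W)

/-- **The adjoint frame of `PΩ_{2m+1}(F)`.** -/
theorem data (hZ : Subgroup.center (Cfsg.POmega F ⇑(oddForm m F)) = ⊥) :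
    Cfsg.Agent.H928.Ad.Data cs (isCartan m) p (Cfsg.Agent.Nodes.WittModel.T (mod h2 hm)) (wdat (p := p) h2 hm).nk
      (Cfsg.Agent.Nodes.WittModel.X (mod h2 hm)) (xc (mod h2 hm) (yc m F)) (wdat (p := p) h2 hm).DD :=
  (wdat (p := p) h2 hm).data cs hZ

/-- **the anti-automorphism** -/
theorem anti (hZ : Subgroup.center (Cfsg.POmega F ⇑(oddForm m F)) = ⊥) :
    ∃ φ : ↥(Cfsg.Agent.H928.Ad.Gad (wdat (p := p) h2 hm).DD) → ↥(Cfsg.Agent.H928.Ad.Gad (wdat (p := p) h2 hm).DD),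
      (∀ g, (φ g : MulAut (Cfsg.POmega F ⇑(oddForm m F))) =
        (wdat (p := p) h2 hm).om * (g : MulAut (Cfsg.POmega F ⇑(oddForm m F)))⁻¹ * (wdat (p := p) h2 hm).om⁻¹) ∧
      Cfsg.Agent.H92.GG.Anti cs (isCartan m) (Cfsg.Agent.H928.Ad.Tad (wdat (p := p) h2 hm).DD)
        (Cfsg.Agent.H928.Ad.Xad (Cfsg.Agent.Nodes.WittModel.X (mod h2 hm)) (wdat (p := p) h2 hm).DD) φ :=
  (wdat (p := p) h2 hm).anti cs hZ

include h2 hm in
/-- `CommGen` -/
theorem commGen : Cfsg.Agent.Omega.EH3.Kf.Lev.CommGen cs (isCartan m) (Cfsg.Agent.Nodes.WittModel.X (mod h2 hm)) := by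
  have hG := Cfsg.Agent.Omega.EH3.Kf.TwWitt.gd_of_surj (mod h2 hm) (fun a => ?_)
  · exact fun _ hr h0 hs => hG.gen _ hr h0 hs
  · refine ⟨adm (a / 2), adm 1, ?_⟩
    rw [adm_w, adm_w, HO_h, polar_smul_left, polar_smul_right, polar_self', Q_u0]
    simp only [smul_eq_mul]
    field_simp

end Data

end Cfsg.Agent.H845.OC.Odd
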