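import Cfsg.Agent.H845.OC.SpData
import Cfsg.Agent.H845.OC.OddData
import Cfsg.Agent.H396.PC.RowData
import Cfsg.Agent.S4613

/-!
# S4829, own characteristic, `p` odd: the rows `PSp_{2m}(q)` and `PΩ_{2m+1}(q)` (helper845)

* `rowA_psp`, `rowA_oodd` : the rows of the concrete groups;
* `psp`, `oodd` : the fields of `H690.CY.LieRows`.
-/

set_option autoImplicit false
set_option linter.unusedSectionVars false

open Cfsg

namespace Cfsg.Agent.H845.OC

open Cfsg.Agent.H770.CY Cfsg.Agent.LieClassical.OrthForms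

variable {F : Type} [Field F] [Fintype F] {p : ℕ} [hp : Fact p.Prime] [CharP F p]

theorem odd_card (hp2 : p ≠ 2) : Odd (Nat.card F) := by
  obtain ⟨k, -, hk⟩ := FiniteField.card F p
  rw [Nat.card_eq_fintype_card, hk]
  exact (hp.out.odd_of_ne_two hp2).pow

theorem two_ne (hp2 : p ≠ 2) : (2 : F) ≠ 0 := by
  intro h
  have h1 : ((2 : ℕ) : F) = 0 := by exact_mod_cast h
  rw [CharP.cast_eq_zero_iff F p] at h1
  exact hp2 ((Nat.prime_dvd_prime_iff_eq hp.out Nat.prime_two).1 h1)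

theorem center_of {S : Type*} [Group S] (hs : IsSimpleGroup S) (h : ¬ IsMulCommutative S) :
    Subgroup.center S = ⊥ := by
  rcases IsSimpleGroup.eq_bot_or_eq_top_of_normal (Subgroup.center S) inferInstance with h1 | h1
  · exact h1
  · exfalso
    apply h
    refine ⟨⟨fun a b => ?_⟩⟩
    have : b ∈ Subgroup.center S := by rw [h1]; exact Subgroup.mem_top b
    exact Subgroup.mem_center_iff.1 this a

theorem na_of_equiv {S T : Type*} [Group S] [Group T] (e : S ≃* T) (h : ¬ IsMulCommutative S) : ¬ IsMulCommutative T :=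
  fun h' => h ⟨⟨fun a b => e.injective (by rw [map_mul, map_mul]; exact h'.is_comm.comm _ _)⟩⟩

/-- **the row of `PSp_{2m}(q)`** -/
theorem rowA_psp (hp2 : p ≠ 2) {m : ℕ} (hm : 2 ≤ m) [Fintype (PSp m F)] [IsSimpleGroup (PSp m F)]
    (hna : ¬ IsMulCommutative (PSp m F)) : RowA p (PSp m F) := by
  have : NeZero m := ⟨by omega⟩
  have hF := odd_card (F := F) hp2
  have h3 : 3 ≤ Fintype.card F := by
    have h1 : 1 < Fintype.card F := Fintype.one_lt_card
    rw [Nat.card_eq_fintype_card] at hF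
    obtain ⟨k, hk⟩ := hF
    omega
  have hL : IsLieTypeChar p (PSp m F) := Or.inr (Or.inl ⟨F, inferInstance, inferInstance, inferInstance, m, hm,
    fun _ => h3, ⟨MulEquiv.refl _⟩⟩)
  have : Finite (CoxeterMatrix.B m).Group := Cfsg.Agent.Nodes.TypeC.finite_W (CoxeterMatrix.B m).toCoxeterSystem
  obtain ⟨t, ht, a, ha, hs⟩ := Sp.exists_t (F := F) (p := p) hm hF
  obtain ⟨φ, -, hφ⟩ := H553.AF.PSp.anti (F := F) (p := p) (CoxeterMatrix.B m).toCoxeterSystem
  exact H396.PC.rowA_data hna hp2 (H553.AF.PSp.data (F := F) (p := p) (CoxeterMatrix.B m).toCoxeterSystem)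
    (Sp.commGen (two_ne hp2) (CoxeterMatrix.B m).toCoxeterSystem) hφ
    (fun b hb hQ => S4613.result p hL b hb hQ.choose hQ.choose_spec) ht a ha hs

/-- **the row of `PΩ_{2m+1}(q)`** -/
theorem rowA_oodd (hp2 : p ≠ 2) {m : ℕ} (hm : 3 ≤ m) [Fintype (POmega F ⇑(oddForm m F))]
    [IsSimpleGroup (POmega F ⇑(oddForm m F))]
    (hna : ¬ IsMulCommutative (POmega F ⇑(oddForm m F))) : RowA p (POmega F ⇑(oddForm m F)) := by
  have : NeZero m := ⟨by omega⟩
  have hF := odd_card (F := F) hp2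
  have hF' : Odd (Fintype.card F) := by rwa [← Nat.card_eq_fintype_card]
  have h2 := two_ne (F := F) hp2
  have hm2 : 2 ≤ m := by omega
  have hZ : Subgroup.center (POmega F ⇑(oddForm m F)) = ⊥ := center_of inferInstance hna
  have hL : IsLieTypeChar p (POmega F ⇑(oddForm m F)) := Or.inr (Or.inr (Or.inr (Or.inl ⟨F, inferInstance, inferInstance,
    inferInstance, m, hm, hF', ⟨by rw [coe_oddForm]⟩⟩)))
  have : Finite (CoxeterMatrix.B m).Group := Cfsg.Agent.Nodes.TypeC.finite_W (CoxeterMatrix.B m).toCoxeterSystem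
  obtain ⟨t, ht, a, ha, hs⟩ := exists_t_orth (Odd.wdat (p := p) h2 hm2) (fun _ => rfl) hm hF
  obtain ⟨φ, -, hφ⟩ := Odd.anti (F := F) (p := p) h2 hm2 (CoxeterMatrix.B m).toCoxeterSystem hZ
  exact H396.PC.rowA_data hna hp2 (Odd.data (F := F) (p := p) h2 hm2 (CoxeterMatrix.B m).toCoxeterSystem hZ)
    (Odd.commGen h2 hm2 (CoxeterMatrix.B m).toCoxeterSystem) hφ
    (fun b hb hQ => S4613.result p hL b hb hQ.choose hQ.choose_spec) ht a ha hs

/-- **the field `psp`** -/
theorem psp {p : ℕ} [Fact p.Prime] (hp2 : p ≠ 2) :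
    RowForA p (fun X _ => ∃ (F : Type) (_ : Field F) (_ : Fintype F) (_ : CharP F p) (m : ℕ), 2 ≤ m ∧
      Nonempty (X ≃* PSp m F)) := by
  rintro X _ _ _ hna - ⟨F, i1, i2, i3, m, hm, ⟨e⟩⟩
  have : Finite (PSp m F) := Finite.of_equiv X e.toEquiv
  have : Fintype (PSp m F) := Fintype.ofFinite _
  have : IsSimpleGroup (PSp m F) := e.symm.isSimpleGroup
  exact H776.CY.RowA.congr e (rowA_psp hp2 hm (na_of_equiv e hna))

/-- **the field `oodd`** -/
theorem oodd {p : ℕ} [Fact p.Prime] (hp2 : p ≠ 2) :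
    RowForA p (fun X _ => ∃ (F : Type) (_ : Field F) (_ : Fintype F) (_ : CharP F p) (m : ℕ), 3 ≤ m ∧
      Odd (Fintype.card F) ∧ Nonempty (X ≃* POmega F (quadFormOdd m F))) := by
  rintro X _ _ _ hna - ⟨F, i1, i2, i3, m, hm, -, ⟨e⟩⟩
  rw [← coe_oddForm] at e
  have : Finite (POmega F ⇑(oddForm m F)) := Finite.of_equiv X e.toEquiv
  have : Fintype (POmega F ⇑(oddForm m F)) := Fintype.ofFinite _
  have : IsSimpleGroup (POmega F ⇑(oddForm m F)) := e.symm.isSimpleGroup
  exact H776.CY.RowA.congr e (rowA_oodd hp2 hm (na_of_equiv e hna))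

end Cfsg.Agent.H845.OC
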