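import Cfsg.Agent.H553.AF.PSp
import Cfsg.Agent.H845.OC.HX
import Cfsg.Agent.Mrg.Omega.EH3.Kf.TwWitt
import Cfsg.Agent.H148.GG.Par

/-!
# `CommGen` and the torus element for `PSp m F`, `F` of odd characteristic (S4829, own characteristic; helper845)
-/

set_option autoImplicit false
set_option linter.unusedSectionVars false

namespace Cfsg.Agent.H845.OC.Sp

open Cfsg Cfsg.Agent.ClassicalGeometry.SympBasic
open Cfsg.Agent.ChevalleyStructure.CoxeterGeom Cfsg.Agent.Tits.Roots Cfsg.Agent.Nodes.TypeC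
open Cfsg.Agent.Nodes.Comb Cfsg.Agent.Nodes.Reps Cfsg.Agent.Nodes.WittRoot Cfsg.Agent.Nodes.BNOf
open Cfsg.Agent.Nodes.WittRGD Cfsg.Agent.Nodes.RGDLib Cfsg.Agent.Nodes.Bruhat
open Cfsg.Agent.TitsThree Cfsg.Agent.TitsThree.Siegel Cfsg.Agent.TitsThree.SpIdent
open Cfsg.Agent.TitsThree.WittFrame
  Cfsg.Agent.TitsThree.WittWeyl Cfsg.Agent.TitsThree.FrameCN
open Cfsg.Agent.H553.AF Cfsg.Agent.H553.AF.PSp Cfsg.Agent.H712.OC

universe v

variable {F : Type v} [Field F] {m : ℕ}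

/-- `CommGen` -/
theorem commGen (h2 : (2 : F) ≠ 0) {W : Type*} [Group W] (cs : CoxeterSystem (CoxeterMatrix.B m) W) :
    Cfsg.Agent.Omega.EH3.Kf.Lev.CommGen cs (isCartan m) (Cfsg.Agent.Nodes.WittModel.X (KInstSp.model m F)) := by
  have hw : ∀ p : (SpIdent.frame m F).Adm, p.w = 0 := fun p =>
    (Submodule.mem_bot F).1 ((SpIdent.frame m F).ok_mem p.ok)
  have h1 : (-1 : F) ≠ 1 := by
    intro h
    apply h2
    linear_combination -h
  have hG := Cfsg.Agent.Omega.EH3.Kf.TwWitt.gd_of_sp (KInstSp.model m F) hw (fun _ => rfl)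
    (fun c => ⟨SpIdent.adm c, rfl⟩) (l := -1) (by simp) h1
  exact fun _ hr h0 hs => hG.gen _ hr h0 hs

/-- **the torus element** -/
theorem exists_t [NeZero m] [Finite F] {p : ℕ} [hp : Fact p.Prime] [CharP F p] (hm : 2 ≤ m) (hF : Odd (Nat.card F)) :
    ∃ t ∈ Cfsg.Agent.Nodes.WittModel.T (KInstSp.model m F), ∃ a : ∀ i : Fin m, (KK F F (sr i))ˣ,
      (∀ i s, t * xc (KInstSp.model m F) (yc m F) (sr i) s * t⁻¹ =
        xc (KInstSp.model m F) (yc m F) (sr i) (a i * s)) ∧ ∏ i, eta (KK F F (sr i)) (a i) = -1 := by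
  classical
  obtain ⟨u, hu⟩ := exists_eta_neg hF
  let d : Fin m → Fˣ := fun k => if (k : ℕ) = 0 then u else 1
  let val : Fin m → ℤˣ := fun k => if (k : ℕ) = 0 then -1 else 1
  have D := wdat (m := m) (F := F) (p := p)
  obtain ⟨g, hg, hs, hb, hZ⟩ := D.fulA (fun k => (d k : F)) (fun k => (d k).ne_zero)
  have hgT : g ∈ Tor (frame m F) (KInstSp.model m F).I := ⟨hs.iso, D.dg.mono g hg⟩
  have key : ∃ t ∈ Cfsg.Agent.Nodes.WittModel.T (KInstSp.model m F), ∃ a : ∀ i : Fin m, (KK F F (sr i))ˣ,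
      (∀ i s, t * xc (KInstSp.model m F) (yc m F) (sr i) s * t⁻¹ =
        xc (KInstSp.model m F) (yc m F) (sr i) (a i * s)) ∧ ∀ i, eta (KK F F (sr i)) (a i) = val i := by
    refine exists_t_diag D (fun _ => rfl) hgT d hb hs.iso (fun k hk q => ?_) val (fun i hi => ?_) (fun i hi => ?_)
    · refine hZ k q ?_
      have : (k : ℕ) ≠ 0 := by omega
      have e1 : d k = 1 := if_neg this
      rw [e1, Units.val_one]
    · have e2 : d ⟨i + 1, hi⟩ = 1 := if_neg (Nat.succ_ne_zero _)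
      by_cases h0 : (i : ℕ) = 0
      · have e1 : d i = u := if_pos h0
        have e3 : val i = -1 := if_pos h0
        rw [e1, e2, e3, div_one, hu]
      · have e1 : d i = 1 := if_neg h0
        have e3 : val i = 1 := if_neg h0
        rw [e1, e2, e3, div_one, map_one]
    · have : (i : ℕ) ≠ 0 := by omega
      exact if_neg this
  obtain ⟨t, ht, a, ha, hv⟩ := key
  refine ⟨t, ht, a, ha, ?_⟩
  rw [Finset.prod_congr rfl fun i _ => hv i, Finset.prod_eq_single (0 : Fin m)]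
  · exact if_pos rfl
  · intro b _ hb
    have : (b : ℕ) ≠ 0 := fun h => hb (Fin.ext (by rw [h]; rfl))
    exact if_neg this
  · intro h
    exact absurd (Finset.mem_univ _) h

end Cfsg.Agent.H845.OC.Sp
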