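import Cfsg.Agent.H553.AF.WData
import Cfsg.Agent.H712.OC.PslT

/-!
# Torus elements of a Witt model and their sign (S4829, own characteristic; helper845)

`WDat`, `σ = 1` : `sc_X`, `sc_Z` : the scalar of `g ∈ DS` on the simple root groups and its sign `eta`;
`exists_t` : an element of the torus of the model with given signs.
-/

set_option autoImplicit false
set_option linter.unusedSectionVars false

namespace Cfsg.Agent.H845.OC

open Cfsg.Agent.ChevalleyStructure.CoxeterGeom Cfsg.Agent.Tits.Roots Cfsg.Agent.Nodes.TypeC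
open Cfsg.Agent.Nodes.Comb Cfsg.Agent.Nodes.Reps Cfsg.Agent.Nodes.WittRoot Cfsg.Agent.Nodes.BNOf
open Cfsg.Agent.Nodes.WittRGD Cfsg.Agent.Nodes.RGDLib Cfsg.Agent.Nodes.Bruhat
open Cfsg.Agent.TitsThree Cfsg.Agent.TitsThree.Siegel Cfsg.Agent.TitsThree.WittFrame
  Cfsg.Agent.TitsThree.WittWeyl Cfsg.Agent.TitsThree.FrameCN
open Cfsg.Agent.H553.AF Cfsg.Agent.H712.OC

universe v

instance KB.finite (E F : Type v) [Finite E] [Finite F] : ∀ b, Finite (KB E F b)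
  | true => inferInstanceAs (Finite E)
  | false => inferInstanceAs (Finite F)

variable {F : Type v} [Field F] {V : Type*} [AddCommGroup V] [Module F V] {H : HForm F V} {n : ℕ}
  {Fr : Frame H (Fin n)} {E : Type v} [Field E] {K : Type*} [Group K] {M : Model Fr K} {Y : YC Fr E}
  {p : ℕ} {p0 : Fr.Adm} {DS : Subgroup (V ≃ₗ[F] V)} {w : V ≃ₗ[F] V} (D : WDat M p p0 DS Y w)
  [NeZero n] [Finite F] [Finite E]

/-- the scalar on a short simple root group -/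
theorem sc_X (hσ : ∀ t : F, H.σ t = t) {i : Fin n} (hi : (i : ℕ) + 1 < n) (g : ↥DS) {v : Fˣ}
    (hv : (D.dg.cf (i, true) g : F) * (D.dg.cf (nx i) g : F) * (D.dg.mu g)⁻¹ = v) :
    ∃ c : (KB E F (lg (sr i)))ˣ, (∀ a, act D.full (D.nrm g) (xb M Y (lg (sr i)) (pr (sr i)) a) =
      xb M Y (lg (sr i)) (pr (sr i)) (c * a)) ∧ eta (KB E F (lg (sr i))) c = eta F v := by
  have hz := isRoot_sr (CoxeterMatrix.B n).toCoxeterSystem (isCartan n) i
  have h1 : (((i, true) : Fin n × Bool) = (pr (sr i)).1 ∧ nx i = (pr (sr i)).2) ∨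
      (((i, true) : Fin n × Bool) = (pr (sr i)).2 ∧ nx i = (pr (sr i)).1) := by
    refine pr_eq hz (ok_nx i) ?_
    rw [ee_sr]
    rfl
  have hb := cns_pr hz
  have hnx : ((i, true) : Fin n × Bool).1 ≠ (nx i).1 := by
    unfold nx; rw [dif_pos hi]; simp [Fin.ext_iff]
  generalize pr (sr i) = q at h1 hb
  generalize lg (sr i) = b at hb
  have hq : q.1.1 ≠ q.2.1 := by
    rcases h1 with ⟨e1, e2⟩ | ⟨e1, e2⟩
    · rw [← e1, ← e2]; exact hnx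
    · rw [← e1, ← e2]; exact hnx.symm
  rcases hb with ⟨-, h⟩ | ⟨rfl, -⟩
  · exact absurd (congrArg Prod.fst h) hq
  have hv' : (D.dg.cf q.1 g : F) * H.σ (D.dg.cf q.2 g : F) * (D.dg.mu g)⁻¹ = v := by
    rw [hσ, ← hv]
    rcases h1 with ⟨e1, e2⟩ | ⟨e1, e2⟩
    · rw [e1, e2]
    · rw [e1, e2, mul_comm (D.dg.cf q.2 g : F)]
  have key : ∀ a : F, act D.full (D.nrm g) (M.X q.1 q.2 a) = M.X q.1 q.2 ((v : F) * a) := by
    intro a
    rw [act_X D.full (g := D.nrm g) (D.dg.mu_spec g) hq hq (D.dg.cf_spec q.1 g) (D.dg.cf_spec q.2 g) a, ← hv']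
    congr 1
    have := Fr.η_ne q.2
    field_simp
  exact ⟨v, key, rfl⟩

/-- the scalar on the long simple root group -/
theorem sc_Z {i : Fin n} (hi : ¬ (i : ℕ) + 1 < n) (g : ↥DS) {v : Eˣ}
    (hv : ∀ a, g.1 * Fr.Z (i, true) (Y.y a) * g.1⁻¹ = Fr.Z (i, true) (Y.y (v * a))) :
    ∃ c : (KB E F (lg (sr i)))ˣ, (∀ a, act D.full (D.nrm g) (xb M Y (lg (sr i)) (pr (sr i)) a) =
      xb M Y (lg (sr i)) (pr (sr i)) (c * a)) ∧ eta (KB E F (lg (sr i))) c = eta E v := by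
  have hz := isRoot_sr (CoxeterMatrix.B n).toCoxeterSystem (isCartan n) i
  have h1 : (((i, true) : Fin n × Bool) = (pr (sr i)).1 ∧ nx i = (pr (sr i)).2) ∨
      (((i, true) : Fin n × Bool) = (pr (sr i)).2 ∧ nx i = (pr (sr i)).1) := by
    refine pr_eq hz (ok_nx i) ?_
    rw [ee_sr]
    rfl
  have hb := cns_pr hz
  have hnx : nx i = ((i, true) : Fin n × Bool) := by unfold nx; rw [dif_neg hi]
  rw [hnx] at h1
  generalize pr (sr i) = q at h1 hb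
  generalize lg (sr i) = b at hb
  have hq : q.1 = (i, true) ∧ q.2 = (i, true) := by
    rcases h1 with ⟨e1, e2⟩ | ⟨e1, e2⟩
    · exact ⟨e1.symm, e2.symm⟩
    · exact ⟨e2.symm, e1.symm⟩
  rcases hb with ⟨rfl, -⟩ | ⟨-, h⟩
  · have key : ∀ a : E, act D.full (D.nrm g) (M.Z q.1 (Y.y a)) = M.Z q.1 (Y.y ((v : E) * a)) := by
      intro a
      refine act_Z D.full (g := D.nrm g) (x := q.1) (x' := q.1) (q := Y.y a) (q' := Y.y ((v : E) * a)) ?_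
      rw [hq.1]
      exact hv a
    exact ⟨v, key, rfl⟩
  · exact absurd (by rw [hq.1, hq.2]) h

/-- **an element of the torus with given signs** -/
theorem exists_t (hσ : ∀ t : F, H.σ t = t) {g : V ≃ₗ[F] V} (hg : g ∈ Tor Fr M.I) (val : Fin n → ℤˣ)
    (h1 : ∀ i : Fin n, (i : ℕ) + 1 < n → ∃ v : Fˣ,
      (D.dg.cf (i, true) ⟨g, D.dg.tor hg⟩ : F) * (D.dg.cf (nx i) ⟨g, D.dg.tor hg⟩ : F) *
        (D.dg.mu ⟨g, D.dg.tor hg⟩)⁻¹ = v ∧ eta F v = val i)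
    (h2 : ∀ i : Fin n, ¬ (i : ℕ) + 1 < n → ∃ v : Eˣ,
      (∀ a, g * Fr.Z (i, true) (Y.y a) * g⁻¹ = Fr.Z (i, true) (Y.y (v * a))) ∧ eta E v = val i) :
    ∃ t ∈ Cfsg.Agent.Nodes.WittModel.T M, ∃ a : ∀ i : Fin n, (KK E F (sr i))ˣ,
      (∀ i s, t * xc M Y (sr i) s * t⁻¹ = xc M Y (sr i) (a i * s)) ∧ ∀ i, eta (KK E F (sr i)) (a i) = val i := by
  have hgI : g ∈ M.I := hg.1
  have key : ∀ i : Fin n, ∃ c : (KB E F (lg (sr i)))ˣ,
      (∀ a, act D.full (D.nrm ⟨g, D.dg.tor hg⟩) (xb M Y (lg (sr i)) (pr (sr i)) a) =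
      xb M Y (lg (sr i)) (pr (sr i)) (c * a)) ∧ eta (KB E F (lg (sr i))) c = val i := by
    intro i
    by_cases hi : (i : ℕ) + 1 < n
    · obtain ⟨v, hv, hv'⟩ := h1 i hi
      obtain ⟨c, hc, hc'⟩ := sc_X D hσ hi _ hv
      exact ⟨c, hc, hc'.trans hv'⟩
    · obtain ⟨v, hv, hv'⟩ := h2 i hi
      obtain ⟨c, hc, hc'⟩ := sc_Z D hi ⟨g, D.dg.tor hg⟩ hv
      exact ⟨c, hc, hc'.trans hv'⟩
  choose a ha ha' using key
  refine ⟨M.φ ⟨g, hgI⟩, ⟨⟨g, hgI⟩, hg, rfl⟩, a, fun i s => ?_, ha'⟩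
  have h3 := ha i s
  have h4 : D.nrm ⟨g, D.dg.tor hg⟩ = ⟨(⟨g, hgI⟩ : ↥M.I).1, Subgroup.le_normalizer (⟨g, hgI⟩ : ↥M.I).2⟩ := rfl
  rw [h4, act_of_mem D.full ⟨g, hgI⟩, MulAut.conj_apply] at h3
  exact h3

end Cfsg.Agent.H845.OC
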